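import Groth.Agent.Lib.HomShExact13.Dual
import Groth.Agent.Lib.AdeqMod20.Cartan
import Groth.Agent.Lib.PullH25.Ext
import Groth.Prelude.Def_CGrpSh2
import Mathlib.Algebra.Category.Grp.EpiMono

/-!
# The first cohomology of an internal Hom vanishes when `Ext¹` does
-/

set_option autoImplicit false
set_option backward.isDefEq.respectTransparency false
set_option backward.isDefEq.respectTransparency.types false
set_option linter.all false
set_option maxHeartbeats 1000000
set_option synthInstance.maxHeartbeats 200000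

universe u

open CategoryTheory CategoryTheory.Limits Opposite

noncomputable section

namespace GrothLib.H1HomSh6

section Site

variable {C : Type (u + 1)} [Category.{u} C] {J : GrothendieckTopology C}

theorem congr_app' {F G : Sheaf J AddCommGrpCat.{u + 1}} {f g : F ⟶ G} (h : f = g) (T : Cᵒᵖ) (x : F.obj.obj T) :
    f.hom.app T x = g.hom.app T x := by rw [h]

/-- Triangle identity for evaluation, with a change of coefficients. -/
theorem bidual_triangle {A B M : Sheaf J AddCommGrpCat.{u + 1}} (ι : B ⟶ M) :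
    HomSh.bidualMap J (HomSh.homSh J A B) M ≫
      HomSh.homShMap J (HomSh.bidualMap J A B ≫ HomSh.homShMap J (𝟙 (HomSh.homSh J A B)) ι) (𝟙 M) =
    HomSh.homShMap J (𝟙 A) ι := by
  refine Sheaf.hom_ext (NatTrans.ext (funext fun T => AddCommGrpCat.ext fun χ => ?_))
  refine Sheaf.hom_ext (NatTrans.ext (funext fun W => AddCommGrpCat.ext fun a => ?_))
  let h := (unop W).hom
  let φ : A.over (unop T) ⟶ B.over (unop T) := χ
  change ι.hom.app (op (unop W).left)
      (φ.hom.app (op (Over.mk (𝟙 (unop W).left ≫ h))) (A.obj.map (𝟙 (unop W).left).op a)) =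
    ι.hom.app (op (unop W).left) (φ.hom.app (op (Over.mk h)) a)
  rw [HomSh.app_over_mk_congr J φ (Category.id_comp h), op_id, A.obj.map_id]
  rfl

variable [HasSheafify J AddCommGrpCat.{u + 1}]

theorem injective_app {F G : Sheaf J AddCommGrpCat.{u + 1}} (f : F ⟶ G) [Mono f] (T : Cᵒᵖ) :
    Function.Injective (f.hom.app T) := by
  haveI : Mono ((sheafToPresheaf J AddCommGrpCat.{u + 1}).map f) := inferInstance
  haveI : Mono (f.hom.app T) := inferInstanceAs (Mono (((sheafToPresheaf J AddCommGrpCat.{u + 1}).map f).app T))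
  exact (AddCommGrpCat.mono_iff_injective _).1 inferInstance

theorem exists_preimage (S : ShortComplex (Sheaf J AddCommGrpCat.{u + 1})) (hS : S.Exact) [Mono S.f]
    (T : C) (s : S.X₂.obj.obj (op T)) (hs : S.g.hom.app (op T) s = 0) : ∃ r, S.f.hom.app (op T) r = s := by
  let F := sheafToPresheaf J AddCommGrpCat.{u + 1} ⋙ (evaluation Cᵒᵖ AddCommGrpCat.{u + 1}).obj (op T)
  haveI : F.Additive := { map_add := by intros; rfl }
  have h := hS.map_of_mono_of_preservesKernel F inferInstance inferInstance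
  rw [ShortComplex.ab_exact_iff] at h
  exact h s hs

theorem surjective_homShMap_injective {F F' : Sheaf J AddCommGrpCat.{u + 1}} (α : F' ⟶ F) [Mono α]
    (I : Sheaf J AddCommGrpCat.{u + 1}) [Injective I] (T : C) :
    Function.Surjective ((HomSh.homShMap J α (𝟙 I)).hom.app (op T)) := by
  intro φ
  haveI : Injective (I.over T) := GrothLib.HomShExact13.injective_over T J I
  haveI : (J.overPullback AddCommGrpCat.{u + 1} T).IsRightAdjoint :=
    ((Over.forget T).sheafAdjunctionContinuous AddCommGrpCat.{u + 1} (J.over T) J).isRightAdjoint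
  let φ' : F'.over T ⟶ I.over T := φ
  refine ⟨Injective.factorThru φ' ((J.overPullback _ T).map α), ?_⟩
  change (J.overPullback _ T).map α ≫ Injective.factorThru φ' ((J.overPullback _ T).map α) ≫
    (J.overPullback _ T).map (𝟙 I) = φ'
  rw [CategoryTheory.Functor.map_id]
  exact (congrArg (_ ≫ ·) (Category.comp_id _)).trans (Injective.comp_factorThru _ _)

open GrothLib.HomShExact13 in
/-- A section of a quotient of `𝓗om(A, B) ⊆ I` lifts if homomorphisms from `A` lift along an injective presentation of `B`. -/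
theorem exists_lift {A B M M₃ I Q : Sheaf J AddCommGrpCat.{u + 1}} (ι : B ⟶ M) (g : M ⟶ M₃) (w : ι ≫ g = 0)
    (hC : (ShortComplex.mk ι g w).ShortExact) [Injective M]
    (i₀ : HomSh.homSh J A B ⟶ I) (π₀ : I ⟶ Q) (w₀ : i₀ ≫ π₀ = 0)
    (hS : (ShortComplex.mk i₀ π₀ w₀).ShortExact) {T₀ : C}
    (hA : Function.Surjective ((HomSh.homShMap J (𝟙 A) g).hom.app (op T₀))) (s : Q.obj.obj (op T₀)) :
    ∃ t, π₀.hom.app (op T₀) t = s := by
  haveI : Mono i₀ := hS.mono_f
  haveI : Epi π₀ := hS.epi_g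
  haveI : Mono ι := hC.mono_f
  let D := HomSh.homSh J A B
  let evA : A ⟶ HomSh.homSh J D M := HomSh.bidualMap J A B ≫ HomSh.homShMap J (𝟙 D) ι
  let res := HomSh.homShMap J i₀ (𝟙 M)
  haveI : Epi res := epi_homShMap_injective i₀ M
  let p₁ := pullback.fst evA res
  let p₂ := pullback.snd evA res
  haveI : Epi p₁ := inferInstanceAs (Epi (pullback.fst evA res))
  let k := kernel.ι p₁
  have hk : (ShortComplex.mk k p₁ (kernel.condition _)).ShortExact :=
    { exact := ShortComplex.exact_of_f_is_kernel _ (kernelIsKernel p₁) }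
  let P := pullback evA res
  let T : I ⟶ HomSh.homSh J P M := HomSh.bidualMap J I M ≫ HomSh.homShMap J p₂ (𝟙 M)
  let m := HomSh.homShMap J (𝟙 A) ι
  let n : D ⟶ HomSh.homSh J P M := m ≫ HomSh.homShMap J p₁ (𝟙 M)
  have hn : i₀ ≫ T = n := by
    show i₀ ≫ HomSh.bidualMap J I M ≫ _ = _
    rw [← Category.assoc, bidualMap_naturality, Category.assoc, ← HomSh.homShMap_comp, Category.comp_id,
      show p₂ ≫ HomSh.homShMap J i₀ (𝟙 M) = p₁ ≫ evA from pullback.condition.symm]
    refine Eq.trans ?_ (congrArg (· ≫ HomSh.homShMap J p₁ (𝟙 M)) (bidual_triangle ι))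
    refine Eq.trans ?_ (Category.assoc _ _ _).symm
    refine congrArg (HomSh.bidualMap J _ M ≫ ·) ?_
    exact (congrArg (HomSh.homShMap J (p₁ ≫ evA)) (Category.comp_id (𝟙 M)).symm).trans
      (HomSh.homShMap_comp J evA p₁ (𝟙 M) (𝟙 M))
  haveI : Mono n := by
    haveI : Mono m := mono_homShMap_right A ι
    haveI : Mono (HomSh.homShMap J p₁ (𝟙 M)) := mono_homShMap_left p₁ M
    exact mono_comp _ _
  let a := HomSh.homShMap J (𝟙 P) g
  let b := HomSh.homShMap J k (𝟙 M)
  have hp₁k : ∀ N : Sheaf J AddCommGrpCat.{u + 1},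
      HomSh.homShMap J p₁ (𝟙 N) ≫ HomSh.homShMap J k (𝟙 N) = 0 := fun N => by
    rw [← HomSh.homShMap_comp, show k ≫ p₁ = 0 from kernel.condition _, Category.comp_id]
    exact ((HomSh.homShBi J).flip.obj N).map_zero (op A) (op (kernel p₁))
  have hna : i₀ ≫ T ≫ a = 0 := by
    rw [← Category.assoc, hn, Category.assoc, homShMap_exchange, ← Category.assoc,
      homShMap_comp_zero _ _ w, zero_comp]
  have hnb : i₀ ≫ T ≫ b = 0 := by
    rw [← Category.assoc, hn, Category.assoc, hp₁k, comp_zero]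
  let Λ : Q ⟶ HomSh.homSh J P M₃ := hS.exact.desc (T ≫ a) hna
  have hΛ : π₀ ≫ Λ = T ≫ a := hS.exact.g_desc _ _
  let Kd : Q ⟶ HomSh.homSh J (kernel p₁) M := hS.exact.desc (T ≫ b) hnb
  have hKd : π₀ ≫ Kd = T ≫ b := hS.exact.g_desc _ _
  have hΛK : Λ ≫ HomSh.homShMap J k (𝟙 M₃) = Kd ≫ HomSh.homShMap J (𝟙 (kernel p₁)) g := by
    rw [← cancel_epi π₀, reassoc_of% hΛ, reassoc_of% hKd, ← homShMap_exchange]
  obtain ⟨κ, hκ⟩ := surjective_homShMap_injective k M T₀ (Kd.hom.app (op T₀) s)
  haveI : Mono ((ShortComplex.mk k p₁ (kernel.condition _)).op.map (homInto M₃)).f := mono_homShMap_left p₁ M₃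
  obtain ⟨φ, hφ⟩ := exists_preimage _ (exact_homShMap_left hk M₃) T₀
    (Λ.hom.app (op T₀) s - a.hom.app (op T₀) κ) (by
      show (HomSh.homShMap J k (𝟙 M₃)).hom.app (op T₀) _ = 0
      rw [map_sub, sub_eq_zero]
      refine (congr_app' hΛK (op T₀) s).trans ?_
      refine (congrArg ((HomSh.homShMap J (𝟙 (kernel p₁)) g).hom.app (op T₀)) hκ).symm.trans ?_
      exact congr_app' (homShMap_exchange k g) (op T₀) κ)
  replace hφ : (HomSh.homShMap J p₁ (𝟙 M₃)).hom.app (op T₀) φ = Λ.hom.app (op T₀) s - a.hom.app (op T₀) κ := hφ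
  obtain ⟨ψ, hψ⟩ := hA φ
  let e := κ + (HomSh.homShMap J p₁ (𝟙 M)).hom.app (op T₀) ψ
  have hea : a.hom.app (op T₀) e = Λ.hom.app (op T₀) s := by
    rw [map_add, show a.hom.app (op T₀) ((HomSh.homShMap J p₁ (𝟙 M)).hom.app (op T₀) ψ) = _ from
      congr_app' (homShMap_exchange p₁ g) (op T₀) ψ]
    refine (congrArg (_ + ·) ((congrArg _ hψ).trans hφ)).trans ?_
    abel
  have heb : b.hom.app (op T₀) e = Kd.hom.app (op T₀) s := by
    rw [map_add, show b.hom.app (op T₀) ((HomSh.homShMap J p₁ (𝟙 M)).hom.app (op T₀) ψ) = 0 from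
      congr_app' (hp₁k M) (op T₀) ψ, add_zero, hκ]
  let P' : ∀ {V : C} (_h : V ⟶ T₀), I.obj.obj (op V) → Prop := fun {V} h x =>
    π₀.hom.app (op V) x = Q.obj.map h.op s ∧ T.hom.app (op V) x = (HomSh.homSh J P M).obj.map h.op e
  have huniq : ∀ {V : C} {h : V ⟶ T₀} {x y : I.obj.obj (op V)}, P' h x → P' h y → x = y := by
    intro V h x y hx hy
    haveI : Mono (ShortComplex.mk i₀ π₀ w₀).f := hS.mono_f
    obtain ⟨χ, hχ⟩ := exists_preimage (ShortComplex.mk i₀ π₀ w₀) hS.exact V (x - y) (by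
      rw [map_sub, hx.1, hy.1, sub_self])
    have h0 : n.hom.app (op V) χ = 0 := by
      rw [← congr_app' hn (op V) χ]
      show T.hom.app (op V) (i₀.hom.app (op V) χ) = 0
      rw [hχ, map_sub, hx.2, hy.2, sub_self]
    have h1 : χ = 0 := injective_app n (op V) (h0.trans (map_zero _).symm)
    rw [← sub_eq_zero, ← hχ, h1]
    exact map_zero _
  have hex : ∀ {V : C} (h : V ⟶ T₀), Presheaf.imageSieve π₀.hom s h → ∃ x, P' h x := by
    rintro V h ⟨r, hr⟩
    let z := T.hom.app (op V) r - (HomSh.homSh J P M).obj.map h.op e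
    have hza : a.hom.app (op V) z = 0 := by
      rw [map_sub, sub_eq_zero]
      refine (congr_app' hΛ (op V) r).symm.trans ?_
      rw [NatTrans.naturality_apply a.hom h.op e, hea]
      exact (congrArg _ hr).trans (NatTrans.naturality_apply Λ.hom h.op s)
    have hzb : b.hom.app (op V) z = 0 := by
      rw [map_sub, sub_eq_zero]
      refine (congr_app' hKd (op V) r).symm.trans ?_
      rw [NatTrans.naturality_apply b.hom h.op e, heb]
      exact (congrArg _ hr).trans (NatTrans.naturality_apply Kd.hom h.op s)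
    haveI : Mono ((ShortComplex.mk k p₁ (kernel.condition _)).op.map (homInto M)).f := mono_homShMap_left p₁ M
    obtain ⟨c, hc⟩ := exists_preimage _ (exact_homShMap_left hk M) V z hzb
    replace hc : (HomSh.homShMap J p₁ (𝟙 M)).hom.app (op V) c = z := hc
    have hgc : (HomSh.homShMap J (𝟙 A) g).hom.app (op V) c = 0 := by
      haveI : Mono (HomSh.homShMap J p₁ (𝟙 M₃)) := mono_homShMap_left p₁ M₃
      refine injective_app (HomSh.homShMap J p₁ (𝟙 M₃)) (op V) ?_
      rw [map_zero]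
      exact (congr_app' (homShMap_exchange p₁ g) (op V) c).symm.trans ((congrArg _ hc).trans hza)
    haveI : Mono ((ShortComplex.mk ι g w).map (HomSh.homShFunctor J A)).f := mono_homShMap_right A ι
    obtain ⟨d, hd⟩ := exists_preimage _ (exact_homShMap_right A hC.exact hC.mono_f) V c hgc
    replace hd : m.hom.app (op V) d = c := hd
    refine ⟨r - i₀.hom.app (op V) d, ?_, ?_⟩
    · rw [map_sub, show π₀.hom.app (op V) (i₀.hom.app (op V) d) = 0 from congr_app' w₀ (op V) d, sub_zero, hr]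
    · rw [map_sub, show T.hom.app (op V) (i₀.hom.app (op V) d) = z from
        (congr_app' hn (op V) d).trans ((congrArg _ hd).trans hc), sub_sub_cancel]
  haveI : Sheaf.IsLocallySurjective π₀ := (Sheaf.isLocallySurjective_iff_epi' (φ := π₀)).2 inferInstance
  have hR := Presheaf.imageSieve_mem J π₀.hom s
  let fam : Presieve.FamilyOfElements (I.obj ⋙ forget AddCommGrpCat.{u + 1}) (Presheaf.imageSieve π₀.hom s).arrows :=
    fun V h hh => (hex h hh).choose
  have hfam : fam.Compatible := by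
    rw [Presieve.compatible_iff_sieveCompatible]
    intro V W h l hh
    have hx := (hex h hh).choose_spec
    refine huniq (hex (l ≫ h) (Sieve.downward_closed _ hh l)).choose_spec ⟨?_, ?_⟩
    · refine (NatTrans.naturality_apply π₀.hom l.op _).trans ((congrArg _ hx.1).trans ?_)
      exact (ConcreteCategory.congr_hom (Q.obj.map_comp h.op l.op) s).symm
    · refine (NatTrans.naturality_apply T.hom l.op _).trans ((congrArg _ hx.2).trans ?_)
      exact (ConcreteCategory.congr_hom ((HomSh.homSh J P M).obj.map_comp h.op l.op) e).symm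
  have hI := I.property
  rw [Presheaf.isSheaf_iff_isSheaf_forget _ _ (forget AddCommGrpCat.{u + 1}), isSheaf_iff_isSheaf_of_type] at hI
  obtain ⟨t, ht, -⟩ := hI _ hR fam hfam
  refine ⟨t, ?_⟩
  have hQ := Q.property
  rw [Presheaf.isSheaf_iff_isSheaf_forget _ _ (forget AddCommGrpCat.{u + 1}), isSheaf_iff_isSheaf_of_type] at hQ
  refine (hQ _ hR).isSeparatedFor.ext fun V h hh => ?_
  refine (NatTrans.naturality_apply π₀.hom h.op t).symm.trans ((congrArg _ (ht h hh)).trans ?_)
  exact (hex h hh).choose_spec.1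

end Site

section Big

open AlgebraicGeometry MonoidalCategory CartesianMonoidalCategory

local notation "fppf" => Scheme.fppfPrecoverage

variable {X : Scheme.{u}}

theorem surjective_sections_one {A M N : BigSite.Ab fppf X} (g : M ⟶ N) (h : ∀ φ : A ⟶ N, ∃ ψ : A ⟶ M, ψ ≫ g = φ) :
    Function.Surjective ((HomSh.homShMap (QuotSh.J fppf X) (𝟙 A) g).hom.app (op (𝟙_ (Over X)))) := by
  intro φ
  let φ' : A.over (𝟙_ (Over X)) ⟶ N.over (𝟙_ (Over X)) := φ
  let Φ : A ⟶ N :=
    ⟨{ app := fun V => ConcreteCategory.ofHom (C := AddCommGrpCat.{u + 1}) (X := A.obj.obj V) (Y := N.obj.obj V)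
          (φ'.hom.app (op (Over.mk (toUnit (unop V))))).hom
       naturality := fun V W f => AddCommGrpCat.ext fun x => ConcreteCategory.congr_hom
          (φ'.hom.naturality (Over.homMk f.unop (toUnit_unique _ _) :
            Over.mk (toUnit (unop W)) ⟶ Over.mk (toUnit (unop V))).op) x }⟩
  obtain ⟨ψ, hψ⟩ := h Φ
  refine ⟨((QuotSh.J fppf X).overPullback _ _).map ψ, ?_⟩
  refine Sheaf.hom_ext (NatTrans.ext (funext fun W => AddCommGrpCat.ext fun x => ?_))
  change g.hom.app (op (unop W).left) (ψ.hom.app (op (unop W).left) x) = φ'.hom.app W x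
  refine (congr_app' hψ (op (unop W).left) x).trans ?_
  exact HomSh.app_over_mk_congr (QuotSh.J fppf X) φ' (toUnit_unique _ (unop W).hom) x

/-- `H¹(X, 𝓗om(A, B))` vanishes when `Ext¹(A, B)` does. -/
theorem subsingleton_H_one (A B : BigSite.Ab fppf X)
    (h : ∀ {M N : BigSite.Ab fppf X} (ι : B ⟶ M) (g : M ⟶ N) (w : ι ≫ g = 0),
      (ShortComplex.mk ι g w).ShortExact → ∀ φ : A ⟶ N, ∃ ψ : A ⟶ M, ψ ≫ g = φ) :
    Subsingleton (BigSite.H fppf X (HomSh.homSh (QuotSh.J fppf X) A B) 1) := by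
  refine subsingleton_of_forall_eq 0 fun ξ => ?_
  obtain ⟨y, rfl⟩ := GrothLib.PullH25.exists_comp_extClass (n := 0) ξ
  obtain ⟨φ, rfl⟩ := (Abelian.Ext.mk₀_bijective _ _).2 y
  let hT : IsTerminal (𝟙_ (Over X)) := Over.mkIdTerminal
  let C := ShortComplex.mk (Injective.ι (HomSh.homSh (QuotSh.J fppf X) A B))
    (cokernel.π (Injective.ι (HomSh.homSh (QuotSh.J fppf X) A B))) (cokernel.condition _)
  have hC : C.ShortExact := GrothLib.PullH25.injSES_shortExact _
  have hB : (ShortComplex.mk (Injective.ι B) (cokernel.π (Injective.ι B)) (cokernel.condition _)).ShortExact :=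
    GrothLib.PullH25.injSES_shortExact _
  haveI : Injective (Injective.under B) := inferInstance
  obtain ⟨t, ht⟩ := exists_lift (Injective.ι B) (cokernel.π (Injective.ι B)) (cokernel.condition _) hB C.f C.g C.zero
    hC (surjective_sections_one _ (h _ _ _ hB)) (Sheaf.H.equiv₀ C.X₃ hT (Abelian.Ext.mk₀ φ))
  have hψ : Abelian.Ext.addEquiv₀ ((Sheaf.H.equiv₀ C.X₂ hT).symm t) ≫ C.g = φ := by
    refine (Sheaf.H.addEquiv₀_map C.g _).symm.trans ?_
    rw [Sheaf.H.equiv₀_symm_naturality, ht, AddEquiv.symm_apply_apply]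
    exact Abelian.Ext.addEquiv₀.apply_symm_apply φ
  rw [← hψ, ← Abelian.Ext.mk₀_comp_mk₀, Abelian.Ext.comp_assoc_of_second_deg_zero]
  erw [hC.comp_extClass]
  rw [Abelian.Ext.comp_zero]

/-- Lifting from the vanishing of `Ext¹`. -/
theorem exists_lift_of_subsingleton_ext {A B : BigSite.Ab fppf X} [Subsingleton (Abelian.Ext A B 1)]
    {M N : BigSite.Ab fppf X} (ι : B ⟶ M) (g : M ⟶ N) (w : ι ≫ g = 0) (hS : (ShortComplex.mk ι g w).ShortExact)
    (φ : A ⟶ N) : ∃ ψ : A ⟶ M, ψ ≫ g = φ := by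
  obtain ⟨y, hy⟩ := Abelian.Ext.covariant_sequence_exact₃ A hS (Abelian.Ext.mk₀ φ) rfl (Subsingleton.elim _ _)
  obtain ⟨ψ, rfl⟩ := (Abelian.Ext.mk₀_bijective _ _).2 y
  rw [Abelian.Ext.mk₀_comp_mk₀] at hy
  exact ⟨ψ, (Abelian.Ext.mk₀_bijective _ _).1 hy⟩

end Big

end GrothLib.H1HomSh6
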