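import Groth.Agent.Lib.H1HomSh6.Main

/-!
# `Ext¹` out of an iterated extension
-/

set_option autoImplicit false
set_option backward.isDefEq.respectTransparency false
set_option linter.all false
set_option synthInstance.maxHeartbeats 200000

universe u

open CategoryTheory CategoryTheory.Limits AlgebraicGeometry MonObj

namespace GrothLib.H1HomSh6

local notation "fppf" => Scheme.fppfPrecoverage

theorem subsingleton_ext_of_tower {X : Scheme.{u}} {G : Over X} [GrpObj G] [IsCommMonObj G] (B : BigSite.Ab fppf X)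
    (hG : Subsingleton (Abelian.Ext (CGrpSh.pts fppf G) B 1))
    (n : ℕ) (U : Fin (n + 1) → Over X) [∀ j, GrpObj (U j)] [∀ j, IsCommMonObj (U j)]
    (incl : ∀ j : Fin n, U j.castSucc ⟶ U j.succ) (proj : ∀ j : Fin n, U j.succ ⟶ G)
    [∀ j, IsMonHom (incl j)] [∀ j, IsMonHom (proj j)] (w : ∀ j, incl j ≫ proj j = 1)
    (hex : ∀ j, (CGrpSh.seq fppf (incl j) (proj j) (w j)).ShortExact)
    (h0 : IsZero (CGrpSh.pts fppf (U 0))) (j : Fin (n + 1)) :
    Subsingleton (Abelian.Ext (CGrpSh.pts fppf (U j)) B 1) := by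
  induction j using Fin.induction with
  | zero =>
    refine subsingleton_of_forall_eq 0 fun x => ?_
    refine (Abelian.Ext.mk₀_id_comp x).symm.trans ?_
    have e : Abelian.Ext.mk₀ (𝟙 (CGrpSh.pts fppf (U 0))) = 0 := by
      rw [h0.eq_of_src (𝟙 (CGrpSh.pts fppf (U 0))) 0]
      exact Abelian.Ext.mk₀_zero _ _
    exact (congrArg (fun m => Abelian.Ext.comp m x (zero_add 1)) e).trans (Abelian.Ext.zero_comp _ _ _ _ _)
  | succ j ih =>
    refine subsingleton_of_forall_eq 0 fun x => ?_
    obtain ⟨y, hy⟩ := Abelian.Ext.contravariant_sequence_exact₂ (hex j) B x (@Subsingleton.elim _ ih _ _)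
    rw [← hy, @Subsingleton.elim _ hG y 0]
    exact Abelian.Ext.comp_zero _ _ _ _ _

end GrothLib.H1HomSh6
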